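import Groth.Agent.S5950
import Groth.Agent.NormCurve.Normal
import Groth.Agent.NagataLib.Scheme
import Groth.Agent.CurveRes.Basic
import Groth.Agent.Neron6.BirOpen
import Groth.Agent.GeomIrrSpread.SmoothNeutral
import Groth.Agent.VarGeom.OpenMap
import Groth.Prelude.Def_Curv2

/-!
# The normalization of a base change with smooth normalization
-/

set_option autoImplicit false
set_option linter.style.haveILetI false
set_option maxHeartbeats 1000000
set_option synthInstance.maxHeartbeats 400000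
set_option backward.isDefEq.respectTransparency false
set_option backward.isDefEq.respectTransparency.types false

universe u

open CategoryTheory CategoryTheory.Limits AlgebraicGeometry

noncomputable section

namespace Groth.Agent.NormBCSmooth

theorem nilradical_le_ker {Z W : Scheme.{u}} [IsReduced Z] (q : Z ⟶ W) : W.nilradical ≤ q.ker := by
  rw [← Scheme.IdealSheafData.map_bot q, ← Scheme.nilradical_eq_bot (X := Z),
    ← Scheme.IdealSheafData.vanishingIdeal_top (X := Z), Scheme.IdealSheafData.map_vanishingIdeal,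
    ← Scheme.IdealSheafData.vanishingIdeal_top (X := W)]
  exact Scheme.IdealSheafData.vanishingIdeal_antimono le_top

theorem surjective_subschemeι (W : Scheme.{u}) : Surjective W.nilradical.subschemeι :=
  ⟨by rw [← Set.range_eq_univ, Scheme.IdealSheafData.range_subschemeι, Scheme.support_nilradical]; rfl⟩

/-- A normalization with smooth base change gives the normalization of the reduced base change. -/
theorem exists_iso (K : Type u) [Field K] (X : Scheme.{u})
    [X.Over (Spec (CommRingCat.of K))] [IsIntegral X] [LocallyOfFiniteType (X ↘ (Spec (CommRingCat.of K)))]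
    [QuasiCompact (X.fromSpecStalk (genericPoint X))] [QuasiSeparated (X.fromSpecStalk (genericPoint X))]
    (hsm : Smooth (Curv2.normalizationι X ≫ (X ↘ (Spec (CommRingCat.of K)))))
    (Ω : Type u) [Field Ω] [Algebra K Ω]
    [IsIntegral ((Curv2.bc K X Ω).nilradical).subscheme]
    [QuasiCompact ((((Curv2.bc K X Ω).nilradical).subscheme).fromSpecStalk (genericPoint ((Curv2.bc K X Ω).nilradical).subscheme))]
    [QuasiSeparated ((((Curv2.bc K X Ω).nilradical).subscheme).fromSpecStalk (genericPoint ((Curv2.bc K X Ω).nilradical).subscheme))] :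
    ∃ e : Limits.pullback (Curv2.normalizationι X ≫ (X ↘ (Spec (CommRingCat.of K))))
          (Spec.map (CommRingCat.ofHom (algebraMap K Ω))) ≅
        Curv2.normalization ((Curv2.bc K X Ω).nilradical).subscheme,
      e.hom ≫ Curv2.normalizationι ((Curv2.bc K X Ω).nilradical).subscheme ≫ ((Curv2.bc K X Ω).nilradical).subschemeι =
        Limits.pullback.map (Curv2.normalizationι X ≫ (X ↘ (Spec (CommRingCat.of K))))
          (Spec.map (CommRingCat.ofHom (algebraMap K Ω))) (X ↘ (Spec (CommRingCat.of K)))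
          (Spec.map (CommRingCat.ofHom (algebraMap K Ω))) (Curv2.normalizationι X) (𝟙 _) (𝟙 _)
          (Category.comp_id _) ((Category.comp_id _).trans (Category.id_comp _).symm) := by
  let a := X ↘ Spec (CommRingCat.of K)
  let ν := Curv2.normalizationι X
  let bK := Spec.map (CommRingCat.ofHom (algebraMap K Ω))
  let R := ((Curv2.bc K X Ω).nilradical).subscheme
  let ι : R ⟶ Curv2.bc K X Ω := ((Curv2.bc K X Ω).nilradical).subschemeι
  let Z := pullback (ν ≫ a) bK
  let q : Z ⟶ Curv2.bc K X Ω := pullback.map (ν ≫ a) bK a bK ν (𝟙 _) (𝟙 _) (Category.comp_id _)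
    ((Category.comp_id _).trans (Category.id_comp _).symm)
  haveI : IsFinite ν := NormCurve.isFinite_normalizationι X
    (fun U => NagataLib.isNagata_affineOpen (X ↘ Spec (CommRingCat.of K)) U)
  have hZ : Pi1.IsNormalScheme Z := by
    haveI : Smooth (ν ≫ a) := hsm
    exact Neron6.isNormalScheme_of_smooth (pullback.snd (ν ≫ a) bK) (GeomIrrSpread.isNormalScheme_spec Ω)
  haveI : ∀ z : Z, _root_.IsReduced (Z.presheaf.stalk z) := fun z => by
    haveI := (hZ z).1
    infer_instance
  haveI : IsReduced Z := isReduced_of_isReduced_stalk Z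
  haveI : IsClosedImmersion ι := inferInstanceAs (IsClosedImmersion ((Curv2.bc K X Ω).nilradical).subschemeι)
  haveI := surjective_subschemeι (Curv2.bc K X Ω)
  let g : Z ⟶ R := IsClosedImmersion.lift ι q
    (le_of_eq_of_le (Scheme.IdealSheafData.ker_subschemeι _) (nilradical_le_ker q))
  have hg : g ≫ ι = q := IsClosedImmersion.lift_fac _ _ _
  -- `q` is the base change of the normalization
  have hfst : q ≫ Curv2.bcFst K X Ω = pullback.fst (ν ≫ a) bK ≫ ν := pullback.lift_fst _ _ _
  have hsnd : q ≫ pullback.snd a bK = pullback.snd (ν ≫ a) bK :=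
    (pullback.lift_snd _ _ _).trans (Category.comp_id _)
  have hpb : IsPullback (pullback.fst (ν ≫ a) bK) q ν (Curv2.bcFst K X Ω) := by
    refine IsPullback.of_bot ?_ hfst.symm (IsPullback.of_hasPullback a bK)
    rw [hsnd]
    exact IsPullback.of_hasPullback _ _
  -- over an open where the normalization is an isomorphism
  obtain ⟨U₀, hU₀, hiso⟩ := CurveRes.exists_isIso_of_isFinite (X := X)
  let U₁ : (Curv2.bc K X Ω).Opens := Curv2.bcFst K X Ω ⁻¹ᵁ U₀
  haveI hqiso : IsIso (q ∣_ U₁) := by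
    have hbig := (isPullback_morphismRestrict q U₁).flip.paste_horiz hpb
    have hr : U₁.ι ≫ Curv2.bcFst K X Ω = (Curv2.bcFst K X Ω ∣_ U₀) ≫ U₀.ι :=
      (morphismRestrict_ι (Curv2.bcFst K X Ω) U₀).symm
    rw [hr] at hbig
    have hl := IsPullback.of_right' hbig (isPullback_morphismRestrict ν U₀).flip
    haveI : IsIso (ν ∣_ U₀) := hiso
    exact hl.isIso_snd_of_isIso
  have hU₁ : (U₁ : Set ↥(Curv2.bc K X Ω)).Nonempty := by
    haveI : Surjective bK := ⟨fun _ => ⟨default, Subsingleton.elim _ _⟩⟩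
    obtain ⟨x, hx⟩ := hU₀.nonempty
    obtain ⟨w, hw⟩ := Scheme.Hom.surjective (Curv2.bcFst K X Ω) x
    exact ⟨w, show Curv2.bcFst K X Ω w ∈ U₀ from hw ▸ hx⟩
  haveI : IsReduced (U₁ : Scheme.{u}) := isReduced_of_isOpenImmersion (inv (q ∣_ U₁))
  haveI : IsIso (ι ∣_ U₁) := by
    haveI : Surjective (ι ∣_ U₁) := IsZariskiLocalAtTarget.restrict (P := @Surjective) ‹_› U₁
    haveI : IsClosedImmersion (ι ∣_ U₁) := IsZariskiLocalAtTarget.restrict (P := @IsClosedImmersion) ‹_› U₁
    exact isIso_of_isClosedImmersion_of_surjective _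
  let V : R.Opens := ι ⁻¹ᵁ U₁
  have hV : (V : Set ↥R).Nonempty := by
    obtain ⟨w, hw⟩ := hU₁
    obtain ⟨r, hr⟩ := Scheme.Hom.surjective ι w
    exact ⟨r, show ι r ∈ U₁ from hr ▸ hw⟩
  have hpre : g ⁻¹ᵁ V = q ⁻¹ᵁ U₁ := by rw [← hg]; rfl
  haveI hgiso : IsIso (g ∣_ V) := by
    have h : IsIso (g ∣_ V ≫ ι ∣_ U₁) := by
      rw [← morphismRestrict_comp]
      exact (show ∀ q', q' = q → IsIso (q' ∣_ U₁) from fun q' h => by subst h; exact hqiso) _ hg
    exact IsIso.of_isIso_comp_right (g ∣_ V) (ι ∣_ U₁)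
  -- the reduced base change is normal there
  have hVn : ∀ r ∈ V, IsIntegrallyClosed (R.presheaf.stalk r) := by
    intro r hr
    let j : (V : Scheme.{u}) ⟶ Z := inv (g ∣_ V) ≫ (g ⁻¹ᵁ V).ι
    haveI := (hZ (j ⟨r, hr⟩)).2
    haveI : IsIntegrallyClosed ((V : Scheme.{u}).presheaf.stalk ⟨r, hr⟩) :=
      IsIntegrallyClosed.of_equiv (asIso (j.stalkMap ⟨r, hr⟩)).commRingCatIsoToRingEquiv
    exact IsIntegrallyClosed.of_equiv (asIso (V.ι.stalkMap ⟨r, hr⟩)).symm.commRingCatIsoToRingEquiv
  haveI : IsIntegralHom g := by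
    haveI : IsIntegralHom q := MorphismProperty.of_isPullback hpb (inferInstance : IsIntegralHom ν)
    haveI : IsIntegralHom (g ≫ ι) := by rw [hg]; infer_instance
    exact MorphismProperty.of_postcomp @IsIntegralHom g ι (inferInstance : IsSeparated ι) inferInstance
  have hdense : Dense ((g ⁻¹ᵁ V : Z.Opens) : Set ↥Z) := by
    rw [hpre]
    haveI : IsIntegral (Curv2.normalization X) :=
      inferInstanceAs (IsIntegral (X.fromSpecStalk (genericPoint X)).normalization)
    haveI : IrreducibleSpace ↥(Curv2.normalization X) := inferInstance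
    have hne : ((ν ⁻¹ᵁ U₀ : (Curv2.normalization X).Opens) : Set ↥(Curv2.normalization X)).Nonempty := by
      obtain ⟨x, hx⟩ := hU₀.nonempty
      obtain ⟨y, hy⟩ := (Scheme.homeoOfIso (asIso (ν ∣_ U₀))).surjective ⟨x, hx⟩
      exact ⟨y.1, y.2⟩
    haveI := VarGeom.universallyOpen_of_field bK
    have heq : q ⁻¹ᵁ U₁ = pullback.fst (ν ≫ a) bK ⁻¹ᵁ (ν ⁻¹ᵁ U₀) := by
      exact (congrArg (· ⁻¹ᵁ U₀) hfst : (q ≫ Curv2.bcFst K X Ω) ⁻¹ᵁ U₀ = _)
    rw [heq]
    exact ((ν ⁻¹ᵁ U₀).2.dense hne).preimage (pullback.fst (ν ≫ a) bK).isOpenMap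
  obtain ⟨e, he⟩ := (S5950.result R ⟨V, hV, hVn⟩ g).2 ⟨hZ, inferInstance, V, V.2.dense hV, hdense, hgiso⟩
  exact ⟨e, ((Category.assoc _ _ _).symm.trans (congrArg (· ≫ ι) he)).trans hg⟩

end Groth.Agent.NormBCSmooth
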